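import Mathlib

/-!
Eventual sign of the Todd product coefficient.
-/

namespace Groth.Agent.MBLead

open PowerSeries Filter

theorem bernoulli'_sign (k : ℕ) (hk : k ≠ 0) : 0 < (-1 : ℚ) ^ (k + 1) * bernoulli' (2 * k) := by
  have h := hasSum_zeta_nat hk
  have h1 := le_hasSum h 1 (fun n _ => by positivity)
  simp only [Nat.cast_one, one_pow, div_one] at h1
  rw [bernoulli_eq_bernoulli'_of_ne_one (by omega)] at h1
  by_contra hcon
  push Not at hcon
  have hc : (-1 : ℝ) ^ (k + 1) * (bernoulli' (2 * k) : ℝ) ≤ 0 := by exact_mod_cast hcon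
  have hc2 : (-1 : ℝ) ^ (k + 1) * (2 : ℝ) ^ (2 * k - 1) * Real.pi ^ (2 * k) * (bernoulli' (2 * k) : ℝ) / ((2 * k).factorial : ℝ) ≤ 0 := by
    refine div_nonpos_of_nonpos_of_nonneg ?_ (by positivity)
    have : (-1 : ℝ) ^ (k + 1) * (2 : ℝ) ^ (2 * k - 1) * Real.pi ^ (2 * k) * (bernoulli' (2 * k) : ℝ) =
        ((2 : ℝ) ^ (2 * k - 1) * Real.pi ^ (2 * k)) * ((-1 : ℝ) ^ (k + 1) * (bernoulli' (2 * k) : ℝ)) := by ring
    rw [this]
    exact mul_nonpos_of_nonneg_of_nonpos (by positivity) hc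
  linarith

theorem B_neg_mul_exp :
    rescale (-1 : ℚ) (bernoulli'PowerSeries ℚ) * exp ℚ = bernoulli'PowerSeries ℚ := by
  have h := bernoulli'PowerSeries_mul_exp_sub_one ℚ
  have h2 := congrArg (rescale (-1 : ℚ)) h
  rw [map_mul, map_mul, map_sub, map_one, rescale_X] at h2
  have he : exp ℚ * rescale (-1 : ℚ) (exp ℚ) = 1 := by
    have h3 := exp_mul_exp_eq_exp_add (A := ℚ) 1 (-1)
    rw [rescale_one, RingHom.id_apply, show (1 : ℚ) + -1 = 0 by norm_num] at h3
    rw [h3]; ext n; rcases n with _ | n <;> simp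
  have hne : exp ℚ - 1 ≠ 0 := by
    intro h0
    have := congrArg (coeff 1) h0
    simp at this
  apply mul_right_cancel₀ hne
  rw [h]
  have : rescale (-1 : ℚ) (bernoulli'PowerSeries ℚ) * exp ℚ * (exp ℚ - 1) =
      -(rescale (-1 : ℚ) (bernoulli'PowerSeries ℚ) * (rescale (-1 : ℚ) (exp ℚ) - 1)) * (exp ℚ * exp ℚ) := by
    linear_combination (rescale (-1 : ℚ) (bernoulli'PowerSeries ℚ) * exp ℚ) * he
  rw [this, h2]
  simp only [map_neg, map_one]
  linear_combination (X * exp ℚ) * he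

theorem eventually_neg (P : Polynomial ℚ) (m : ℕ) (hm : 0 < m) (hdeg : P.natDegree ≤ m) (hlc : P.coeff m < 0) :
    ∃ N : ℕ, ∀ p : ℕ, N ≤ p → P.eval (p : ℚ) < 0 := by
  have hd : P.natDegree = m := Polynomial.natDegree_eq_of_le_of_coeff_ne_zero hdeg hlc.ne
  have h := (P.tendsto_atBot_of_leadingCoeff_nonpos (Polynomial.natDegree_pos_iff_degree_pos.1 (hd ▸ hm))
    (by rw [Polynomial.leadingCoeff, hd]; exact hlc.le)).comp (tendsto_natCast_atTop_atTop (R := ℚ))
  exact eventually_atTop.1 (h.eventually (eventually_lt_atBot 0))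

theorem todd_sign (n d : ℕ) (s : ℤ) (hn : 2 ≤ n) (hd : 1 ≤ d)
    (hcase : n % 4 = 0 ∨ (n % 4 = 1 ∧ (n : ℤ) + d + 1 < 2 * s) ∨ (n % 4 = 3 ∧ 2 * s < (n : ℤ) + d + 1)) :
    ∃ P : ℕ, ∀ p : ℕ, P ≤ p →
      coeff n ((rescale (-(d : ℚ)) (bernoulli'PowerSeries ℚ))⁻¹ * rescale (-((d : ℚ) * p)) (bernoulli'PowerSeries ℚ) * bernoulli'PowerSeries ℚ ^ (n + 1) * rescale ((d : ℚ) * p - d - n - 1 + s) (exp ℚ)) < 0 := by
  obtain ⟨B, hB⟩ : ∃ B, B = bernoulli'PowerSeries ℚ := ⟨_, rfl⟩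
  obtain ⟨H, hH⟩ : ∃ H, H = (rescale (-(d : ℚ)) B)⁻¹ * B ^ (n + 1) * rescale (-(d : ℚ) - n - 1 + s) (exp ℚ) := ⟨_, rfl⟩
  have hβ : ∀ j, coeff j B = bernoulli' j / (j.factorial : ℚ) := fun j => by
    simp [hB, bernoulli'PowerSeries]
  have hB0 : constantCoeff B = 1 := by rw [← coeff_zero_eq_constantCoeff_apply, hβ]; simp
  have hB1 : coeff 1 B = 1 / 2 := by rw [hβ]; simp
  have hU0 : constantCoeff (rescale (-(d : ℚ)) B) = 1 := by
    rw [← coeff_zero_eq_constantCoeff_apply, coeff_rescale, hβ]; simp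
  have hW : (rescale (-(d : ℚ)) B)⁻¹ * rescale (-(d : ℚ)) B = 1 := PowerSeries.inv_mul_cancel _ (by rw [hU0]; exact one_ne_zero)
  have hW0 : constantCoeff (rescale (-(d : ℚ)) B)⁻¹ = 1 := by rw [constantCoeff_inv, hU0, inv_one]
  have hW1 : coeff 1 (rescale (-(d : ℚ)) B)⁻¹ = (d : ℚ) / 2 := by
    have := congrArg (coeff 1) hW
    rw [coeff_one_mul, hW0, hU0, coeff_rescale, hB1, coeff_one] at this
    simp at this ⊢
    linarith
  have hE0 : ∀ c : ℚ, constantCoeff (rescale c (exp ℚ)) = 1 := fun c => by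
    rw [← coeff_zero_eq_constantCoeff_apply, coeff_rescale]; simp
  have hE1 : ∀ c : ℚ, coeff 1 (rescale c (exp ℚ)) = c := fun c => by rw [coeff_rescale]; simp
  have hH0 : constantCoeff H = 1 := by rw [hH, map_mul, map_mul, map_pow, hW0, hB0, hE0]; simp
  have hH1 : coeff 1 H = (s : ℚ) - ((d : ℚ) + n + 1) / 2 := by
    rw [hH, coeff_one_mul, coeff_one_mul, map_mul, map_pow, hW0, hW1, hB0, hE0, hE1, coeff_one_pow, hB0, hB1]
    simp
    ring
  obtain ⟨Q, hQ⟩ : ∃ Q : Polynomial ℚ, Q = ∑ j ∈ Finset.range (n + 1),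
      Polynomial.monomial j ((d : ℚ) ^ j * coeff j B * coeff (n - j) H) := ⟨_, rfl⟩
  have hQc : ∀ j ≤ n, Q.coeff j = (d : ℚ) ^ j * coeff j B * coeff (n - j) H := by
    intro j hj
    rw [hQ, Polynomial.finsetSum_coeff, Finset.sum_eq_single j]
    · simp
    · intro b _ hb; rw [Polynomial.coeff_monomial, if_neg hb]
    · intro h; exact absurd (Finset.mem_range.2 (by omega)) h
  have hdn : Q.natDegree ≤ n := by
    rw [hQ]
    refine Polynomial.natDegree_sum_le_of_forall_le _ _ fun j hj => (Polynomial.natDegree_monomial_le _).trans ?_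
    exact Nat.le_of_lt_succ (Finset.mem_range.1 hj)
  have heval : ∀ p : ℕ, coeff n ((rescale (-(d : ℚ)) B)⁻¹ * rescale (-((d : ℚ) * p)) B * B ^ (n + 1) *
      rescale ((d : ℚ) * p - d - n - 1 + s) (exp ℚ)) = Q.eval (p : ℚ) := by
    intro p
    have h1 : rescale (-((d : ℚ) * p)) B * rescale ((d : ℚ) * p) (exp ℚ) = rescale ((d : ℚ) * p) B := by
      have h0 := congrArg (rescale ((d : ℚ) * p)) B_neg_mul_exp
      rw [map_mul, rescale_rescale, ← hB] at h0
      rwa [show (-1 : ℚ) * ((d : ℚ) * p) = -((d : ℚ) * p) by ring] at h0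
    have h2 := exp_mul_exp_eq_exp_add (A := ℚ) ((d : ℚ) * p) (-(d : ℚ) - n - 1 + s)
    rw [show (d : ℚ) * p + (-(d : ℚ) - n - 1 + s) = (d : ℚ) * p - d - n - 1 + s by ring] at h2
    have h3 : (rescale (-(d : ℚ)) B)⁻¹ * rescale (-((d : ℚ) * p)) B * B ^ (n + 1) *
        rescale ((d : ℚ) * p - d - n - 1 + s) (exp ℚ) = rescale ((d : ℚ) * p) B * H := by
      rw [← h2, ← h1, hH]; ring
    rw [h3, coeff_mul, Finset.Nat.sum_antidiagonal_eq_sum_range_succ (fun i j => coeff i (rescale ((d : ℚ) * p) B) * coeff j H),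
      hQ, Polynomial.eval_finset_sum]
    refine Finset.sum_congr rfl fun j _ => ?_
    rw [coeff_rescale, Polynomial.eval_monomial, mul_pow]
    ring
  simp only [← hB, heval]
  have hfac : ∀ j : ℕ, (0 : ℚ) < j.factorial := fun j => by exact_mod_cast j.factorial_pos
  have hdpow : ∀ j : ℕ, (0 : ℚ) < (d : ℚ) ^ j := fun j => pow_pos (by exact_mod_cast hd) j
  rcases hcase with h4 | ⟨h4, hs⟩ | ⟨h4, hs⟩
  · refine eventually_neg Q n (by omega) hdn ?_
    rw [hQc n le_rfl, Nat.sub_self, coeff_zero_eq_constantCoeff_apply, hH0, mul_one, hβ]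
    obtain ⟨k, rfl⟩ : ∃ k, n = 2 * (2 * k) := ⟨n / 4, by omega⟩
    have := bernoulli'_sign (2 * k) (by omega)
    rw [pow_succ, pow_mul] at this
    simp at this
    exact mul_neg_of_pos_of_neg (hdpow _) (div_neg_of_neg_of_pos this (hfac _))
  all_goals
    have hodd : Odd n := Nat.odd_iff.2 (by omega)
    have htop : Q.coeff n = 0 := by
      rw [hQc n le_rfl, hβ, bernoulli'_eq_zero_of_odd hodd (by omega)]; simp
    have hd1 : Q.natDegree ≤ n - 1 := by
      rw [Polynomial.natDegree_le_iff_coeff_eq_zero]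
      intro N hN
      rcases eq_or_lt_of_le (show n ≤ N by omega) with h | h
      · rw [← h, htop]
      · exact Polynomial.coeff_eq_zero_of_natDegree_lt (by omega)
    refine eventually_neg Q (n - 1) (by omega) hd1 ?_
    rw [hQc (n - 1) (by omega), show n - (n - 1) = 1 by omega, hH1, hβ]
    have hs' := (Int.cast_lt (R := ℚ)).2 hs
    push_cast at hs'
  · obtain ⟨k, rfl⟩ : ∃ k, n = 2 * (2 * k) + 1 := ⟨n / 4, by omega⟩
    have := bernoulli'_sign (2 * k) (by omega)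
    rw [pow_succ, pow_mul] at this
    simp at this
    refine mul_neg_of_neg_of_pos (mul_neg_of_pos_of_neg (hdpow _) (div_neg_of_neg_of_pos ?_ (hfac _))) ?_
    · simpa using this
    · push_cast at hs' ⊢; linarith
  · obtain ⟨k, rfl⟩ : ∃ k, n = 2 * (2 * k + 1) + 1 := ⟨n / 4, by omega⟩
    have := bernoulli'_sign (2 * k + 1) (by omega)
    rw [pow_succ, pow_succ, pow_mul] at this
    simp at this
    refine mul_neg_of_pos_of_neg (mul_pos (hdpow _) (div_pos ?_ (hfac _))) ?_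
    · simpa using this
    · push_cast at hs' ⊢; linarith

end Groth.Agent.MBLead
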