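import Mathlib
import Groth.Agent.MBLead.Sign

/-!
Top two terms of the Todd product coefficient as a polynomial in `p`.
-/

namespace Groth.Agent.MBLead

open PowerSeries Filter

theorem todd_expand (n d : ℕ) (s : ℤ) (hn : 2 ≤ n) :
    ∃ P : Polynomial ℚ, P.natDegree ≤ n - 2 ∧ ∀ p : ℕ,
      coeff n ((rescale (-(d : ℚ)) (bernoulli'PowerSeries ℚ))⁻¹ * rescale (-((d : ℚ) * p)) (bernoulli'PowerSeries ℚ) * bernoulli'PowerSeries ℚ ^ (n + 1) * rescale ((d : ℚ) * p - d - n - 1 + s) (exp ℚ)) =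
        bernoulli' n * ((d : ℚ) * p) ^ n / (Nat.factorial n : ℚ) +
          (2 * (s : ℚ) - d - n - 1) / 2 * bernoulli' (n - 1) * ((d : ℚ) * p) ^ (n - 1) / (Nat.factorial (n - 1) : ℚ) +
          P.eval (p : ℚ) := by
  obtain ⟨B, hB⟩ : ∃ B, B = bernoulli'PowerSeries ℚ := ⟨_, rfl⟩
  obtain ⟨H, hH⟩ : ∃ H, H = (rescale (-(d : ℚ)) B)⁻¹ * B ^ (n + 1) * rescale (-(d : ℚ) - n - 1 + s) (exp ℚ) := ⟨_, rfl⟩
  have hβ : ∀ j, coeff j B = bernoulli' j / (j.factorial : ℚ) := fun j => by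
    simp [hB, bernoulli'PowerSeries]
  have hB0 : constantCoeff B = 1 := by rw [← coeff_zero_eq_constantCoeff_apply, hβ]; simp
  have hB1 : coeff 1 B = 1 / 2 := by rw [hβ]; simp
  have hU0 : constantCoeff (rescale (-(d : ℚ)) B) = 1 := by
    rw [← coeff_zero_eq_constantCoeff_apply, coeff_rescale, hβ]; simp
  have hW : (rescale (-(d : ℚ)) B)⁻¹ * rescale (-(d : ℚ)) B = 1 := PowerSeries.inv_mul_cancel _ (by rw [hU0]; exact one_ne_zero)
  have hW0 : constantCoeff (rescale (-(d : ℚ)) B)⁻¹ = 1 := by rw [constantCoeff_inv, hU0, inv_one]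
  have hW1 : coeff 1 (rescale (-(d : ℚ)) B)⁻¹ = (d : ℚ) / 2 := by
    have := congrArg (coeff 1) hW
    rw [coeff_one_mul, hW0, hU0, coeff_rescale, hB1, coeff_one] at this
    simp at this ⊢
    linarith
  have hE0 : ∀ c : ℚ, constantCoeff (rescale c (exp ℚ)) = 1 := fun c => by
    rw [← coeff_zero_eq_constantCoeff_apply, coeff_rescale]; simp
  have hE1 : ∀ c : ℚ, coeff 1 (rescale c (exp ℚ)) = c := fun c => by rw [coeff_rescale]; simp
  have hH0 : constantCoeff H = 1 := by rw [hH, map_mul, map_mul, map_pow, hW0, hB0, hE0]; simp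
  have hH1 : coeff 1 H = (s : ℚ) - ((d : ℚ) + n + 1) / 2 := by
    rw [hH, coeff_one_mul, coeff_one_mul, map_mul, map_pow, hW0, hW1, hB0, hE0, hE1, coeff_one_pow, hB0, hB1]
    simp
    ring
  obtain ⟨Q, hQ⟩ : ∃ Q : Polynomial ℚ, Q = ∑ j ∈ Finset.range (n + 1),
      Polynomial.monomial j ((d : ℚ) ^ j * coeff j B * coeff (n - j) H) := ⟨_, rfl⟩
  have hQc : ∀ j ≤ n, Q.coeff j = (d : ℚ) ^ j * coeff j B * coeff (n - j) H := by
    intro j hj
    rw [hQ, Polynomial.finsetSum_coeff, Finset.sum_eq_single j]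
    · simp
    · intro b _ hb; rw [Polynomial.coeff_monomial, if_neg hb]
    · intro h; exact absurd (Finset.mem_range.2 (by omega)) h
  have hdn : Q.natDegree ≤ n := by
    rw [hQ]
    refine Polynomial.natDegree_sum_le_of_forall_le _ _ fun j hj => (Polynomial.natDegree_monomial_le _).trans ?_
    exact Nat.le_of_lt_succ (Finset.mem_range.1 hj)
  have heval : ∀ p : ℕ, coeff n ((rescale (-(d : ℚ)) B)⁻¹ * rescale (-((d : ℚ) * p)) B * B ^ (n + 1) *
      rescale ((d : ℚ) * p - d - n - 1 + s) (exp ℚ)) = Q.eval (p : ℚ) := by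
    intro p
    have h1 : rescale (-((d : ℚ) * p)) B * rescale ((d : ℚ) * p) (exp ℚ) = rescale ((d : ℚ) * p) B := by
      have h0 := congrArg (rescale ((d : ℚ) * p)) B_neg_mul_exp
      rw [map_mul, rescale_rescale, ← hB] at h0
      rwa [show (-1 : ℚ) * ((d : ℚ) * p) = -((d : ℚ) * p) by ring] at h0
    have h2 := exp_mul_exp_eq_exp_add (A := ℚ) ((d : ℚ) * p) (-(d : ℚ) - n - 1 + s)
    rw [show (d : ℚ) * p + (-(d : ℚ) - n - 1 + s) = (d : ℚ) * p - d - n - 1 + s by ring] at h2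
    have h3 : (rescale (-(d : ℚ)) B)⁻¹ * rescale (-((d : ℚ) * p)) B * B ^ (n + 1) *
        rescale ((d : ℚ) * p - d - n - 1 + s) (exp ℚ) = rescale ((d : ℚ) * p) B * H := by
      rw [← h2, ← h1, hH]; ring
    rw [h3, coeff_mul, Finset.Nat.sum_antidiagonal_eq_sum_range_succ (fun i j => coeff i (rescale ((d : ℚ) * p) B) * coeff j H),
      hQ, Polynomial.eval_finset_sum]
    refine Finset.sum_congr rfl fun j _ => ?_
    rw [coeff_rescale, Polynomial.eval_monomial, mul_pow]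
    ring
  refine ⟨Q - Polynomial.monomial n (Q.coeff n) - Polynomial.monomial (n - 1) (Q.coeff (n - 1)), ?_, fun p => ?_⟩
  · rw [Polynomial.natDegree_le_iff_coeff_eq_zero]
    intro N hN
    rcases lt_trichotomy N n with h | h | h
    · have : N = n - 1 := by omega
      subst this
      simp [Polynomial.coeff_monomial, show n ≠ n - 1 by omega]
    · subst h
      simp [Polynomial.coeff_monomial, show N - 1 ≠ N by omega]
    · simp [Polynomial.coeff_monomial, show n ≠ N by omega, show n - 1 ≠ N by omega,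
        Polynomial.coeff_eq_zero_of_natDegree_lt (show Q.natDegree < N by omega)]
  · simp only [← hB, heval]
    rw [hQc n le_rfl, hQc (n - 1) (by omega), show n - (n - 1) = 1 by omega, Nat.sub_self,
      coeff_zero_eq_constantCoeff_apply, hH0, hH1, hβ, hβ]
    simp only [Polynomial.eval_sub, Polynomial.eval_monomial, mul_pow]
    ring

end Groth.Agent.MBLead
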